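import Mathlib
import Cfsg.Agent.H51.Tools
import Cfsg.Agent.H487.SchurPerfect
set_option linter.all false

/-!
# Schur multipliers: upper bounds from small Sylow subgroups, and covers of covers

* `bd_sq`: a subgroup `⟨x, y⟩` of `p'`-index with `x y = y x`, `x ^ p = 1`: the `p`-part has order at most `p`.
* `bd_dih`: a subgroup of odd index generated by two involutions: the 2-part has order at most 2.
* `PCE.comp`: the composite of perfect central extensions.
* `hasCyclic_cover`: if `Y` has multiplier cyclic of order `n` and `ρ : X → Y` is a perfect central extension, then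
  `X` has multiplier cyclic of order `n / |ker ρ|`.
* `exists_pce_mul`: covers with kernels of coprime orders combine.
-/

set_option autoImplicit false
set_option linter.style.haveILetI false
set_option linter.unusedVariables false

namespace Cfsg.Agent.H68.Bounds

open Subgroup Cfsg.Agent.H51.Mult Cfsg.Agent.H51.Crit
open scoped commutatorElement

universe u v w

section bounds

variable {X : Type v} [Group X]

/-- **Sylow `p`-subgroup of order `p²`**: the `p`-part of the multiplier is at most `p`. -/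
theorem bd_sq [Finite X] {p : ℕ} (hp : p.Prime) {x y : X} (hx : x ^ p = 1) (hxy : x * y = y * x)
    (hidx : ¬ p ∣ (closure {x, y} : Subgroup X).index) : Bd p 1 X := by
  intro L _ _ π h hP
  obtain ⟨α, hα⟩ := h.surj x
  obtain ⟨β, hβ⟩ := h.surj y
  set k := ⁅α, β⁆ with hk
  have hk1 : π k = 1 := by
    rw [hk, map_commutatorElement, hα, hβ, commutatorElement_eq_one_iff_mul_comm, hxy]
  have hkc := h.comm hk1
  have hrel : α * β = k * (β * α) := mul_comm_of_comm.1 rfl
  have hap : α ^ p * β = β * α ^ p := h.comm (by rw [map_pow, hα, hx]) β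
  have hkp : k ^ p = 1 := by
    have h1 := zpow_swap hkc hrel (p : ℤ) 1
    rw [zpow_one, mul_one, zpow_natCast, zpow_natCast, hap] at h1
    have h2 : k ^ p * (β * α ^ p) = 1 * (β * α ^ p) := by rw [one_mul]; exact h1.symm
    exact mul_right_cancel h2
  have hS : ({x, y} : Set X) = π '' {α, β} := by rw [Set.image_pair, hα, hβ]
  have h7 := commutator_comap_le h (S := {α, β}) (M := zpowers k) (by
    intro s _ m hm
    obtain ⟨j, rfl⟩ := mem_zpowers_iff.1 hm
    have h1 : Commute (k ^ j) s := (show Commute k s from hkc s).zpow_left j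
    constructor
    · rw [← h1.eq, mul_inv_cancel_right]; exact hm
    · rw [mul_assoc, h1.eq, inv_mul_cancel_left]; exact hm) (by
    intro s hs t ht
    rcases hs with rfl | rfl <;> rcases ht with rfl | rfl
    · rw [commutatorElement_self]; exact one_mem _
    · exact mem_zpowers _
    · rw [← commutatorElement_inv]; exact inv_mem (mem_zpowers _)
    · rw [commutatorElement_self]; exact one_mem _)
  rw [← hS] at h7
  have hle : π.ker ≤ zpowers k := (h.le_commutator_comap hp hP hidx).trans h7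
  have hcyc : IsCyclic π.ker := by
    haveI : IsCyclic (zpowers k) := inferInstance
    exact isCyclic_of_injective (Subgroup.inclusion hle) (Subgroup.inclusion_injective hle)
  refine ⟨hcyc, ?_⟩
  have h8 : Nat.card π.ker ∣ Nat.card (zpowers k) := Subgroup.card_dvd_of_le hle
  rw [Nat.card_zpowers] at h8
  rw [pow_one]
  exact h8.trans (orderOf_dvd_of_pow_eq_one hkp)

/-- **Dihedral Sylow 2-subgroup**: the 2-part of the multiplier is at most 2. -/
theorem bd_dih [Finite X] {s t : X} (hs : s * s = 1) (ht : t * t = 1)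
    (hidx : ¬ 2 ∣ (closure {s, t} : Subgroup X).index) : Bd 2 1 X := by
  intro L _ _ π h hP
  obtain ⟨α, hα⟩ := h.surj s
  obtain ⟨β, hβ⟩ := h.surj t
  have ha := h.comm (z := α * α) (by rw [map_mul, hα, hs])
  have hb := h.comm (z := β * β) (by rw [map_mul, hβ, ht])
  set d := ⁅α, β⁆ with hd
  have hda : α * d * α⁻¹ = d⁻¹ := by
    rw [hd, commutatorElement_def]
    calc α * (α * β * α⁻¹ * β⁻¹) * α⁻¹ = (α * α) * (β * α⁻¹ * β⁻¹ * α⁻¹) := by group
      _ = (β * α⁻¹ * β⁻¹ * α⁻¹) * (α * α) := ha _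
      _ = β * α⁻¹ * (β⁻¹ * α) := by group
      _ = β * α⁻¹ * (β⁻¹ * (α * α) * α⁻¹) := by group
      _ = β * α⁻¹ * ((α * α) * β⁻¹ * α⁻¹) := by rw [ha]
      _ = (α * β * α⁻¹ * β⁻¹)⁻¹ := by group
  have hdb : β * d * β⁻¹ = d⁻¹ := by
    rw [hd, commutatorElement_def]
    calc β * (α * β * α⁻¹ * β⁻¹) * β⁻¹ = β * α * β * α⁻¹ * (β * β)⁻¹ := by group
      _ = β * α * (β * β) * β⁻¹ * α⁻¹ * (β * β)⁻¹ := by group
      _ = β * α * ((β * β) * (β⁻¹ * α⁻¹)) * (β * β)⁻¹ := by group
      _ = β * α * ((β⁻¹ * α⁻¹) * (β * β)) * (β * β)⁻¹ := by rw [hb]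
      _ = (α * β * α⁻¹ * β⁻¹)⁻¹ := by group
  have hinv : ∀ g ∈ ({α, β} : Set L), ∀ j : ℤ, g * d ^ j * g⁻¹ = d ^ (-j) := by
    intro g hg j
    rw [← conj_zpow]
    rcases hg with rfl | rfl
    · rw [hda, inv_zpow', zpow_neg]
    · rw [hdb, inv_zpow', zpow_neg]
  have hS : ({s, t} : Set X) = π '' {α, β} := by rw [Set.image_pair, hα, hβ]
  have h7 := commutator_comap_le h (S := {α, β}) (M := zpowers d) (by
    intro g hg m hm
    obtain ⟨j, rfl⟩ := mem_zpowers_iff.1 hm
    have h1 := hinv g hg j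
    have h2 := hinv g hg (-j)
    rw [neg_neg] at h2
    constructor
    · rw [h1]; exact ⟨-j, rfl⟩
    · refine ⟨-j, ?_⟩
      show d ^ (-j) = _
      rw [← h2]; group) (by
    intro g hg t ht
    rcases hg with rfl | rfl <;> rcases ht with rfl | rfl
    · rw [commutatorElement_self]; exact one_mem _
    · exact mem_zpowers _
    · rw [← commutatorElement_inv]; exact inv_mem (mem_zpowers _)
    · rw [commutatorElement_self]; exact one_mem _)
  rw [← hS] at h7
  have hle : π.ker ≤ zpowers d := (h.le_commutator_comap Nat.prime_two hP hidx).trans h7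
  have hcyc : IsCyclic π.ker :=
    isCyclic_of_injective (Subgroup.inclusion hle) (Subgroup.inclusion_injective hle)
  refine ⟨hcyc, ?_⟩
  obtain ⟨g, hg⟩ := hcyc.exists_generator
  have hg2 : g ^ 2 = 1 := by
    obtain ⟨j, hj⟩ := mem_zpowers_iff.1 (hle g.2)
    have h1 := hinv α (by simp) j
    rw [hj, zpow_neg, hj, ← h.comm g.2 α, mul_inv_cancel_right] at h1
    apply Subtype.ext
    rw [pow_two]
    show (g : L) * g = 1
    nth_rw 1 [h1]
    exact inv_mul_cancel _
  have h9 : Nat.card π.ker = orderOf g := by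
    rw [← Nat.card_zpowers, (eq_top_iff' _).2 hg, Subgroup.card_top]
  rw [pow_one, h9]
  exact orderOf_dvd_of_pow_eq_one hg2

end bounds

section cover

variable {L : Type u} {X : Type v} {Y : Type w} [Group L] [Group X] [Group Y]

/-- the composite of perfect central extensions -/
theorem pce_comp {π : L →* X} {ρ : X →* Y} (hπ : PCE π) (hρ : PCE ρ) : PCE (ρ.comp π) :=
  ⟨hρ.surj.comp hπ.surj, Cfsg.Agent.H487.ker_comp_le_center ⟨hπ.perf⟩ hπ.cen hρ.cen, hπ.perf⟩

theorem card_ker_comp {π : L →* X} {ρ : X →* Y} (hπ : Function.Surjective π) :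
    Nat.card (ρ.comp π).ker = Nat.card ρ.ker * Nat.card π.ker := by
  let f : (ρ.comp π).ker →* ρ.ker := (π.comp (ρ.comp π).ker.subtype).codRestrict _ (fun x => x.2)
  have hf : Function.Surjective f := by
    rintro ⟨y, hy⟩
    obtain ⟨x, rfl⟩ := hπ y
    exact ⟨⟨x, hy⟩, rfl⟩
  have h1 := Subgroup.card_eq_card_quotient_mul_card_subgroup f.ker
  rw [Nat.card_congr (QuotientGroup.quotientKerEquivOfSurjective f hf).toEquiv] at h1
  rw [h1]
  congr 1
  refine Nat.card_congr ⟨fun x => ⟨x.1.1, ?_⟩, fun x => ⟨⟨x.1, ?_⟩, ?_⟩, fun _ => rfl, fun _ => rfl⟩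
  · exact congrArg Subtype.val x.2
  · show ρ (π x) = 1
    rw [MonoidHom.mem_ker.1 x.2, map_one]
  · exact Subtype.ext x.2

theorem isPGroup_of_injective' {G : Type u} {H : Type v} [Group G] [Group H] {p : ℕ} (hG : IsPGroup p H)
    (f : G →* H) (hf : Function.Injective f) : IsPGroup p G := hG.of_injective f hf

/-- the fibre product of two homomorphisms -/
def fib (π : L →* Y) (ρ : X →* Y) : Subgroup (L × X) where
  carrier := {x | π x.1 = ρ x.2}
  one_mem' := by simp
  mul_mem' := by
    intro a b ha hb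
    show π (a.1 * b.1) = ρ (a.2 * b.2)
    rw [map_mul, map_mul, show π a.1 = ρ a.2 from ha, show π b.1 = ρ b.2 from hb]
  inv_mem' := by
    intro a ha
    show π (a.1)⁻¹ = ρ (a.2)⁻¹
    rw [map_inv, map_inv, show π a.1 = ρ a.2 from ha]

/-- a homomorphism to a perfect central extension of `Y` whose composite to `Y` is onto is onto -/
theorem surj_of_cover {D : Type u} {N : Type v} {Y : Type w} [Group D] [Group N] [Group Y] {σ : N →* Y}
    (hσ : PCE σ) (θ : D →* N) (hθ : Function.Surjective (σ.comp θ)) : Function.Surjective θ := by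
  have h1 : ∀ n : N, ∃ d z, σ z = 1 ∧ n = θ d * z := by
    intro n
    obtain ⟨d, hd⟩ := hθ (σ n)
    exact ⟨d, (θ d)⁻¹ * n, by rw [map_mul, map_inv, ← hd]; exact inv_mul_cancel _, by group⟩
  rw [← MonoidHom.range_eq_top, eq_top_iff, ← hσ.perf, _root_.commutator_def, commutator_le]
  intro a _ b _
  obtain ⟨a', z, hz, rfl⟩ := h1 a
  obtain ⟨b', w, hw, rfl⟩ := h1 b
  have e : ⁅θ a' * z, θ b' * w⁆ = ⁅θ a', θ b'⁆ := by
    rw [mul_comm_of_comm, rel_central (hσ.comm hz) (hσ.comm hw), ← mul_comm_of_comm]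
  rw [e, ← map_commutatorElement]
  exact ⟨_, rfl⟩

/-- a perfect group over `Y` mapping to a perfect central extension -/
theorem pce_of_factor {D : Type u} {N : Type v} {Y : Type w} [Group D] [Group N] [Group Y] {σ : N →* Y}
    (hσ : PCE σ) (θ : D →* N) (hθ : PCE (σ.comp θ)) : PCE θ :=
  ⟨surj_of_cover hσ θ hθ.surj, fun x hx => hθ.cen (by
    rw [MonoidHom.mem_ker]
    show σ (θ x) = 1
    rw [MonoidHom.mem_ker.1 hx, map_one]), hθ.perf⟩

/-- **Common refinement of two perfect central extensions.** -/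
theorem exists_common {L : Type u} {X : Type v} {Y : Type w} [Group L] [Group X] [Group Y] {π : L →* Y} {ρ : X →* Y}
    (hπ : PCE π) (hρ : PCE ρ) :
    ∃ (D : Type (max u v)) (_ : Group D) (f : D →* L) (g : D →* X), PCE f ∧ PCE g ∧ π.comp f = ρ.comp g ∧
      PCE (π.comp f) ∧ (Finite L → Finite X → Finite D) := by
  let F := fib π ρ
  let q : F →* Y := (π.comp (MonoidHom.fst L X)).comp F.subtype
  have hq : Function.Surjective q := by
    intro y
    obtain ⟨l, rfl⟩ := hπ.surj y
    obtain ⟨x, hx⟩ := hρ.surj (π l)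
    exact ⟨⟨(l, x), hx.symm⟩, rfl⟩
  have hqz : q.ker ≤ center F := by
    rintro ⟨⟨l, x⟩, hx⟩ h1
    have h2 : π l = 1 := h1
    have h3 : ρ x = 1 := by rw [← show π l = ρ x from hx]; exact h2
    rw [mem_center_iff]
    rintro ⟨⟨l', x'⟩, hx'⟩
    apply Subtype.ext
    exact Prod.ext (hπ.comm h2 l').symm (hρ.comm h3 x').symm
  have hD := Cfsg.Agent.H51.Tools.pce_of_central hq hqz hπ.perf_base
  let f : (commutator F) →* L := ((MonoidHom.fst L X).comp F.subtype).comp (commutator F).subtype
  let g : (commutator F) →* X := ((MonoidHom.snd L X).comp F.subtype).comp (commutator F).subtype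
  have hc1 : π.comp f = q.comp (commutator F).subtype := rfl
  have hc2 : ρ.comp g = q.comp (commutator F).subtype := by
    ext x
    exact (x.1.2).symm
  refine ⟨commutator F, inferInstance, f, g, pce_of_factor hπ f (hc1 ▸ hD), pce_of_factor hρ g (hc2 ▸ hD),
    hc1.trans hc2.symm, hc1 ▸ hD, fun _ _ => inferInstance⟩

end cover

section mult

variable {Y : Type u} [Group Y]

/-- bounds for the kernels of perfect central extensions from the multiplier -/
theorem ker_of_hasCyclic {n : ℕ} (h : Cfsg.HasCyclicSchurMultiplier Y n) {L : Type v} [Group L] {π : L →* Y}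
    (hπ : PCE π) : IsCyclic π.ker ∧ Nat.card π.ker ∣ n := by
  obtain ⟨f, hf⟩ := Cfsg.Agent.H487.HasSchurMultiplier.exists_surj_ker h hπ.toStem
  haveI : IsCyclic π.ker := isCyclic_of_surjective f hf
  refine ⟨this, ?_⟩
  have h1 := Nat.card_congr (QuotientGroup.quotientKerEquivOfSurjective f hf).toEquiv
  rw [← h1, ← Subgroup.index_eq_card]
  have h2 := f.ker.index_dvd_card
  rwa [Nat.card_congr (Multiplicative.toAdd (α := ZMod n)), Nat.card_zmod] at h2

/-- **The multiplier of a perfect central extension**: if `Y` has multiplier cyclic of order `n` and `ρ : X → Y` is a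
perfect central extension with kernel of order `m`, then the multiplier of `X` is cyclic of order `n / m`. -/
theorem hasCyclic_cover {X : Type u} [Group X] {n : ℕ} (hn : 0 < n) (h : Cfsg.HasCyclicSchurMultiplier Y n)
    {ρ : X →* Y} (hρ : PCE ρ) : Cfsg.HasCyclicSchurMultiplier X (n / Nat.card ρ.ker) := by
  haveI : Finite Y := Cfsg.Agent.H487.finite_base h
  haveI : NeZero n := ⟨hn.ne'⟩
  haveI hfin : ∀ {L : Type u} [Group L] {π : L →* Y}, PCE π → Finite L := by
    intro L _ π hπ
    exact Cfsg.Agent.H487.finite_of_isStemExtension hπ.toStem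
  haveI : Finite X := hfin hρ
  obtain ⟨-, hm⟩ := ker_of_hasCyclic h hρ
  have hm0 : 0 < Nat.card ρ.ker := Nat.card_pos
  have hk0 : 0 < n / Nat.card ρ.ker := Nat.div_pos (Nat.le_of_dvd hn hm) hm0
  have hmul : Nat.card ρ.ker * (n / Nat.card ρ.ker) = n := Nat.mul_div_cancel' hm
  have hbd : ∀ {L : Type} [Group L] {π : L →* X}, PCE π → IsCyclic π.ker ∧ Nat.card π.ker ∣ n / Nat.card ρ.ker := by
    intro L _ π hπ
    obtain ⟨h1, h2⟩ := ker_of_hasCyclic h (pce_comp hπ hρ)
    rw [card_ker_comp hπ.surj] at h2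
    refine ⟨?_, ?_⟩
    · have hle : π.ker ≤ (ρ.comp π).ker := fun x hx => by
        rw [MonoidHom.mem_ker] at hx ⊢
        show ρ (π x) = 1
        rw [hx, map_one]
      exact isCyclic_of_injective (Subgroup.inclusion hle) (Subgroup.inclusion_injective hle)
    · rw [← hmul] at h2
      exact Nat.dvd_of_mul_dvd_mul_left hm0 h2
  refine hasCyclic hρ.perf hk0 ?_ ?_
  · intro p hp _ L _ _ π hπ hP
    obtain ⟨h1, h2⟩ := hbd hπ
    refine ⟨h1, ?_⟩
    haveI : Fact p.Prime := ⟨hp⟩
    obtain ⟨j, hj⟩ := hP.exists_card_eq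
    rw [hj] at h2 ⊢
    exact pow_dvd_pow p ((hp.pow_dvd_iff_le_factorization hk0.ne').1 h2)
  · -- the cover of `Y` with kernel of order `n`
    obtain ⟨⟨Γ, _, _, σ, hσ, ⟨e⟩⟩, -⟩ := h
    have hσ' := PCE.of_stem hσ hρ.perf_base
    obtain ⟨D, _, f, g, hf, hg, hfg, hD, hDf⟩ := exists_common hσ' hρ
    haveI : Finite D := hDf inferInstance inferInstance
    refine ⟨D, inferInstance, inferInstance, g, hg, ?_⟩
    have h1 : Nat.card (σ.comp f).ker = n * Nat.card f.ker := by
      rw [card_ker_comp hf.surj, Nat.card_congr e.toEquiv, Nat.card_congr (Multiplicative.toAdd (α := ZMod n)),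
        Nat.card_zmod]
    have h2 : Nat.card (ρ.comp g).ker = Nat.card ρ.ker * Nat.card g.ker := card_ker_comp hg.surj
    rw [← hfg, h1] at h2
    have h3 : Nat.card ρ.ker * (n / Nat.card ρ.ker) ∣ Nat.card ρ.ker * Nat.card g.ker := by
      rw [hmul]; exact ⟨_, h2.symm⟩
    exact Nat.dvd_of_mul_dvd_mul_left hm0 h3

/-- **Combination of covers**: kernels of coprime orders. -/
theorem exists_mul {m n : ℕ} (hmn : Nat.Coprime m n)
    (h1 : ∃ (L : Type u) (_ : Group L) (_ : Finite L) (π : L →* Y), PCE π ∧ m ∣ Nat.card π.ker)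
    (h2 : ∃ (L : Type u) (_ : Group L) (_ : Finite L) (π : L →* Y), PCE π ∧ n ∣ Nat.card π.ker) :
    ∃ (L : Type u) (_ : Group L) (_ : Finite L) (π : L →* Y), PCE π ∧ m * n ∣ Nat.card π.ker := by
  obtain ⟨L, _, _, π, hπ, hm⟩ := h1
  obtain ⟨X, _, _, ρ, hρ, hn⟩ := h2
  obtain ⟨D, _, f, g, hf, hg, hfg, hD, hDf⟩ := exists_common hπ hρ
  haveI : Finite D := hDf inferInstance inferInstance
  refine ⟨D, inferInstance, inferInstance, _, hD, ?_⟩
  apply Nat.Coprime.mul_dvd_of_dvd_of_dvd hmn
  · rw [card_ker_comp hf.surj]; exact hm.trans (dvd_mul_right _ _)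
  · rw [hfg, card_ker_comp hg.surj]; exact hn.trans (dvd_mul_right _ _)

/-- **Existence of a cover** from a homomorphism to a central quotient `C / Z`: commuting elements of `A` whose images
have lifts to `C` that do not commute. -/
theorem exists_cover_quot {A C : Type u} [Group A] [Group C] [Finite A] [Finite C] (hA : commutator A = ⊤)
    {Z : Subgroup C} [Z.Normal] (hZ : Z ≤ center C) (f : A →* C ⧸ Z) {a b : A} (hab : a * b = b * a) {α β : C}
    (ha : f a = QuotientGroup.mk' Z α) (hb : f b = QuotientGroup.mk' Z β) {n : ℕ} (hn : n ∣ orderOf ⁅α, β⁆) :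
    ∃ (L : Type u) (_ : Group L) (_ : Finite L) (π : L →* A), PCE π ∧ n ∣ Nat.card π.ker := by
  let F := fib f (QuotientGroup.mk' Z)
  let q : F →* A := (MonoidHom.fst A C).comp F.subtype
  have hq : Function.Surjective q := by
    intro x
    obtain ⟨c, hc⟩ := QuotientGroup.mk'_surjective Z (f x)
    exact ⟨⟨(x, c), hc.symm⟩, rfl⟩
  have hqz : q.ker ≤ center F := by
    rintro ⟨⟨x, c⟩, hx⟩ h1
    have h2 : x = 1 := h1
    have h3 : c ∈ Z := by
      have h4 : f x = QuotientGroup.mk' Z c := hx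
      rw [h2, map_one] at h4
      exact (QuotientGroup.eq_one_iff c).1 h4.symm
    rw [mem_center_iff]
    rintro ⟨⟨x', c'⟩, hx'⟩
    apply Subtype.ext
    refine Prod.ext ?_ (mem_center_iff.1 (hZ h3) c')
    show x' * x = x * x'
    rw [h2, mul_one, one_mul]
  let u : F := ⟨(a, α), ha⟩
  let v : F := ⟨(b, β), hb⟩
  have h1 : (MonoidHom.fst A C).comp F.subtype ⁅u, v⁆ = 1 := by
    rw [map_commutatorElement]
    exact commutatorElement_eq_one_iff_mul_comm.2 hab
  have h2 : (MonoidHom.snd A C).comp F.subtype ⁅u, v⁆ = ⁅α, β⁆ := by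
    rw [map_commutatorElement]
    rfl
  refine Cfsg.Agent.H51.Tools.exists_cover hq hqz hA (z := ⁅u, v⁆) ?_ h1 ?_
  · exact commutator_mem_commutator (mem_top u) (mem_top v)
  · refine hn.trans ?_
    rw [← h2]
    exact orderOf_map_dvd _ _

end mult

end Cfsg.Agent.H68.Bounds
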