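import Mathlib
import Cfsg.Agent.H935.Meet.Base_m3
import Cfsg.Agent.CpAutTh.Final
import Cfsg.Agent.CpAut.SmallP.McL
import Cfsg.Agent.CpAutFive.Inv
import Cfsg.Agent.FastGrp
import Cfsg.Agent.Prune
set_option linter.all false
prune_inst 0x7f00000000000000000000000000000000000000000000000000000000000000000000000000000000000000000000000000000000000000000000000000000000000000000000000000000000000000003fffffffffffffffffffffffffffbeffbdffffffff
open scoped Cfsg.Agent.FastGrp

/-!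
# Sylow 5-subgroups of the Thompson group: trivial intersections (helper68)
-/

set_option autoImplicit false
set_option maxRecDepth 100000

namespace Cfsg.Agent.H68.MeetTh

open Subgroup Cfsg
open Cfsg.Agent.Th.Base Cfsg.Agent.Th.Word Cfsg.Agent.Th.RelWords Cfsg.Agent.Th.PermTab
  Cfsg.Agent.Th.KOracle Cfsg.Agent.Th.KPerm Cfsg.Agent.Th.NineAct Cfsg.Agent.Th.CStruct
open Cfsg.Agent.KFacts.Th.Mask Cfsg.Agent.KFacts.Th.Struct
open Cfsg.Agent.CpAutTh.Data Cfsg.Agent.CpAutTh.Alt Cfsg.Agent.CpAutTh.RankOne Cfsg.Agent.CpAutTh.Local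
open Cfsg.Agent.H68.MeetB Cfsg.Agent.H903.SylMeet

universe u

section

variable {G : Type u} [Group G] {γ : ℕ → G} (h : Ctx γ)
include h

theorem card_inf_dvd :
    Nat.card ↥(centralizer ({ev γ X5} : Set G) ⊓ centralizer ({γ 1} : Set G)) ∣ 120 := by
  have := h.fin
  obtain ⟨f, F⟩ := Cfsg.Agent.CpAutTh.Local.exists_epi h
  have hle : ∀ d : ↥(centralizer ({ev γ X5} : Set G) ⊓ centralizer ({γ 1} : Set G)), (d : G) ∈ sub γ isC :=
    fun d => h.mem_C.2 (mem_centralizer_singleton_iff.1 d.2.2)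
  let φ : ↥(centralizer ({ev γ X5} : Set G) ⊓ centralizer ({γ 1} : Set G)) →* Equiv.Perm (Fin 9) :=
    { toFun := fun d => ((f ⟨d, hle d⟩ : alternatingGroup (Fin 9)) : Equiv.Perm (Fin 9))
      map_one' := by
        have : (⟨((1 : ↥(centralizer ({ev γ X5} : Set G) ⊓ centralizer ({γ 1} : Set G))) : G), hle 1⟩ :
          sub γ isC) = 1 := rfl
        rw [this, map_one]; rfl
      map_mul' := fun a b => by
        have : (⟨((a * b : ↥(centralizer ({ev γ X5} : Set G) ⊓ centralizer ({γ 1} : Set G))) : G), hle (a * b)⟩ :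
          sub γ isC) = ⟨a, hle a⟩ * ⟨b, hle b⟩ := rfl
        rw [this, map_mul]; rfl }
  have hker : Nat.card ↥φ.ker ∣ 2 := by
    have h1 : Nat.card ↥(zpowers (γ 1)) ∣ 2 := by
      rw [Nat.card_zpowers]
      exact orderOf_dvd_of_pow_eq_one (by rw [pow_two, h.aa])
    refine dvd_trans ?_ h1
    rw [← card_map_of_injective (subtype_injective (centralizer ({ev γ X5} : Set G) ⊓ centralizer ({γ 1} : Set G)))]
    apply card_dvd_of_le
    rintro _ ⟨d, hd, rfl⟩
    have h2 : f ⟨d, hle d⟩ = 1 := Subtype.ext (MonoidHom.mem_ker.1 hd)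
    have h3 : (d : G) ∈ Q0 γ := (mem_ker F (x := ⟨d, hle d⟩)).1 (MonoidHom.mem_ker.2 h2)
    rcases inv_ker h chk5 fix5 h3 (mem_centralizer_singleton_iff.1 d.2.1) with h4 | h4
    · change (d : G) ∈ _
      rw [h4]
      exact one_mem _
    · change (d : G) ∈ _
      rw [h4]
      exact mem_zpowers _
  have hrange : Nat.card ↥φ.range ∣ 60 := by
    have ho : orderOf (pm9 X5) = 5 := by
      rw [← F.word X5 c5]
      exact ord_f h F Nat.prime_five (by norm_num) (o5 h F)
    have h1 := Cfsg.Agent.CpAut.SmallP.Alt.card_alt_prime Nat.prime_five (n := 9) (by norm_num) (by norm_num) ho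
    have h2 : Nat.card ↥(centralizer ({pm9 X5} : Set (Equiv.Perm (Fin 9))) ⊓ alternatingGroup (Fin 9)) = 60 := by
      have h7 : (9 - 5).factorial * 5 = 120 := by decide
      omega
    rw [← h2]
    apply card_dvd_of_le
    rintro _ ⟨d, rfl⟩
    refine mem_inf.2 ⟨?_, (f ⟨d, hle d⟩).2⟩
    rw [mem_centralizer_singleton_iff, ← F.word X5 c5]
    have h3 : (⟨d, hle d⟩ : sub γ isC) * ⟨ev γ X5, ev_mem_sub c5⟩ = ⟨ev γ X5, ev_mem_sub c5⟩ * ⟨d, hle d⟩ :=
      Subtype.ext (mem_centralizer_singleton_iff.1 d.2.1)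
    have h4 := congrArg (fun z => ((f z : alternatingGroup (Fin 9)) : Equiv.Perm (Fin 9))) h3
    simp only [map_mul, Subgroup.coe_mul] at h4
    exact h4
  rw [← card_mul_index φ.ker, index_ker]
  exact mul_dvd_mul hker hrange

theorem card_inf_conj {s x g : G} (h1 : g * s * g⁻¹ = γ 1) (h2 : g * x * g⁻¹ = ev γ X5) :
    Nat.card ↥(centralizer ({x} : Set G) ⊓ centralizer ({s} : Set G)) ∣ 120 := by
  have := h.fin
  refine dvd_trans ?_ (card_inf_dvd h)
  rw [← card_map_of_injective (f := (MulAut.conj g).toMonoidHom) (MulAut.conj g).injective]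
  apply card_dvd_of_le
  rintro _ ⟨d, ⟨hd1, hd2⟩, rfl⟩
  replace hd1 : d ∈ centralizer ({x} : Set G) := hd1
  replace hd2 : d ∈ centralizer ({s} : Set G) := hd2
  rw [mem_centralizer_singleton_iff] at hd1 hd2
  rw [mem_inf, mem_centralizer_singleton_iff, mem_centralizer_singleton_iff, ← h1, ← h2]
  change g * d * g⁻¹ * (g * x * g⁻¹) = g * x * g⁻¹ * (g * d * g⁻¹) ∧
    g * d * g⁻¹ * (g * s * g⁻¹) = g * s * g⁻¹ * (g * d * g⁻¹)
  constructor
  · calc g * d * g⁻¹ * (g * x * g⁻¹) = g * (d * x) * g⁻¹ := by group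
      _ = _ := by rw [hd1]; group
  · calc g * d * g⁻¹ * (g * s * g⁻¹) = g * (d * s) * g⁻¹ := by group
      _ = _ := by rw [hd2]; group

variable (hone : ∀ u : G, orderOf u = 2 → ∃ g : G, g * u * g⁻¹ = γ 1)
include hone

theorem not_dvd {x : G} (hx : orderOf x = 5) : ¬ 2 ^ 4 ∣ Nat.card ↥(centralizer ({x} : Set G)) := by
  have := h.fin
  obtain ⟨f, F⟩ := Cfsg.Agent.CpAutTh.Local.exists_epi h
  refine Cfsg.Agent.CpAutFive.not_dvd_centralizer (by norm_num) fun s hs hsx => ?_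
  obtain ⟨g, h1, h2⟩ := Cfsg.Agent.CpAutTh.Mid.exists_pair h hone hx hs hsx (P := fun z => z = ev γ X5) (fun y hy => by
    obtain ⟨c, hc⟩ := exists_rep_five h F hy
    exact ⟨c, congrArg Subtype.val hc⟩)
  intro hd
  have h3 := hd.trans (card_inf_conj h h1 h2)
  revert h3
  norm_num

end

theorem card_Th : Nat.card Spor.Th = 90745943887872000 := Cfsg.Agent.KFacts.Th.Main.ctx.card

theorem meetIn_Th' : MeetIn 5 Spor.Th := by
  have : Fact (Nat.Prime 5) := ⟨by norm_num⟩
  have := Cfsg.Agent.KFacts.Th.Main.finite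
  refine MeetIn.of_two (n := 3) (e := 15) (k := 3) (by rw [card_Th]; norm_num) (by rw [card_Th]; norm_num)
    (fun y hy => not_dvd Cfsg.Agent.KFacts.Th.Main.ctx Cfsg.Agent.CpAutTh.Main.hone hy) (by norm_num)

theorem meetIn_Th {G : Type*} [Group G] (h : Spor.IsoTh G) : MeetIn 5 G := by
  obtain ⟨e⟩ := h
  exact meetIn_Th'.congr e.symm

theorem meet5_Th {G : Type*} [Group G] [Finite G] [IsSimpleGroup G] (h : Spor.IsoTh G) : Meet 5 G := by
  have : Fact (Nat.Prime 5) := ⟨by norm_num⟩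
  refine MeetIn.meet ?_ ?_ (meetIn_Th h)
  · obtain ⟨e⟩ := h
    exact (show Cfsg.Agent.CpAut.AutInner 5 Spor.Th from
      fun x _ => Cfsg.Agent.KFacts.Th.Main.inner x).congr e.symm
  · obtain ⟨e⟩ := h
    apply not_comm_of_card
    rw [Nat.card_congr e.toEquiv, card_Th]
    norm_num

end Cfsg.Agent.H68.MeetTh
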